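import Groth.Agent.Lib.MonoVal12.Basic
import Groth.Agent.Lib.ValSq12.Chain
import Groth.Agent.Lib.H12.Specialization
import Groth.Agent.Lib.FibreTop.FiniteFactor
import Mathlib.AlgebraicGeometry.Noetherian
import Mathlib.AlgebraicGeometry.Morphisms.FinitePresentation
import Mathlib.AlgebraicGeometry.ZariskisMainTheorem
import Mathlib.RingTheory.Spectrum.Prime.ConstructibleSet

/-!
# Immersions among monomorphisms
-/

universe u

open CategoryTheory CategoryTheory.Limits AlgebraicGeometry IsLocalRing Topology TopologicalSpace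

set_option backward.isDefEq.respectTransparency.types false

namespace Groth.Agent.MonoImm12

variable {X Y : Scheme.{u}}

/-- The residue field of a point in the image of a monomorphism lifts. -/
theorem exists_lift_of_mem (f : Y ⟶ X) [Mono f] {z : X} (hz : z ∈ Set.range f) :
    ∃ l : Spec (X.residueField z) ⟶ Y, l ≫ f = X.fromSpecResidueField z := by
  obtain ⟨y, rfl⟩ := hz
  obtain ⟨s, hs, -⟩ := MonoVal12.exists_lift_residueField f y
  exact ⟨s, hs⟩

/-- The residue field of a point over the image of a monomorphism lifts. -/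
theorem exists_lift_residue (f : Y ⟶ X) [Mono f] {T : Scheme.{u}} (s : T ⟶ X) (p : T)
    (h : s p ∈ Set.range f) :
    ∃ l : Spec (T.residueField p) ⟶ Y, l ≫ f = T.fromSpecResidueField p ≫ s := by
  obtain ⟨l, hl⟩ := exists_lift_of_mem f h
  exact ⟨Spec.map (s.residueFieldMap p) ≫ l, by
    rw [Category.assoc, hl, Scheme.Hom.SpecMap_residueFieldMap_fromSpecResidueField]⟩

/-- A field valued point lying over the image of a monomorphism lifts. -/
theorem exists_lift_field (f : Y ⟶ X) [Mono f] {K : Type u} [Field K]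
    (t : Spec (CommRingCat.of K) ⟶ X) (h : t (closedPoint K) ∈ Set.range f) :
    ∃ l : Spec (CommRingCat.of K) ⟶ Y, l ≫ f = t := by
  obtain ⟨p, rfl⟩ := (Scheme.SpecToEquivOfField K X).symm.surjective t
  obtain ⟨l, hl⟩ := exists_lift_of_mem f (z := p.1) (by
    convert h using 1
    show p.1 = (Spec.map p.2 ≫ X.fromSpecResidueField p.1) (closedPoint K)
    rw [Scheme.Hom.comp_apply, Scheme.fromSpecResidueField_apply])
  exact ⟨Spec.map p.2 ≫ l, (Category.assoc ..).trans (congrArg (Spec.map p.2 ≫ ·) hl)⟩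

/-- A monomorphism with the dense lifting property over a locally Noetherian scheme is
quasi-compact. -/
theorem quasiCompact_of_denseLift [IsLocallyNoetherian X] (f : Y ⟶ X) [Mono f]
    (hc : ∀ (A : Type u) [CommRing A] [IsDomain A] (s : Spec (CommRingCat.of A) ⟶ X)
      (D : Set ↥(Spec (CommRingCat.of A))),
        Dense D →
        (∀ p ∈ D, ∃ l : Spec ((Spec (CommRingCat.of A)).residueField p) ⟶ Y,
            l ≫ f = (Spec (CommRingCat.of A)).fromSpecResidueField p ≫ s) →
          ∃ U : (Spec (CommRingCat.of A)).Opens, (U : Set ↥(Spec (CommRingCat.of A))).Nonempty ∧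
            ∃ l : (U : Scheme.{u}) ⟶ Y, l ≫ f = U.ι ≫ s) :
    QuasiCompact f := by
  rw [quasiCompact_iff_forall_isAffineOpen]
  intro U hU
  have : IsNoetherianRing Γ(X, U) := IsLocallyNoetherian.component_noetherian ⟨U, hU⟩
  let ι : Spec Γ(X, U) ⟶ X := hU.fromSpec
  let Z : Ideal Γ(X, U) → Set X := fun I => ι '' PrimeSpectrum.zeroLocus (I : Set Γ(X, U))
  suffices H : ∀ I, IsCompact (f ⁻¹' Z I) by
    have e : Z ⊥ = (U : Set X) := by
      show ι '' PrimeSpectrum.zeroLocus _ = _
      rw [PrimeSpectrum.zeroLocus_bot]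
      exact Set.image_univ.trans hU.range_fromSpec
    have h := H ⊥
    rw [e] at h
    exact h
  intro I
  refine IsNoetherian.induction (P := fun I : Ideal Γ(X, U) => IsCompact (f ⁻¹' Z I))
    (fun (I : Ideal Γ(X, U)) ih => ?_) I
  by_cases htop : I = ⊤
  · have e : Z I = ∅ := by
      rw [Set.eq_empty_iff_forall_notMem]
      rintro _ ⟨P, hP, -⟩
      subst htop
      exact (PrimeSpectrum.isPrime P).ne_top (top_le_iff.1 hP)
    rw [e, Set.preimage_empty]
    exact isCompact_empty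
  by_cases hI : I.IsPrime
  swap
  · obtain ⟨a, ha, b, hb, hab⟩ : ∃ a, a ∉ I ∧ ∃ b, b ∉ I ∧ a * b ∈ I := by
      by_contra hn
      push Not at hn
      exact hI ⟨htop, fun {x y} hxy => or_iff_not_imp_left.2 fun hx => by
        by_contra hy
        exact hn x hx y hy hxy⟩
    have e : Z I = Z (I ⊔ Ideal.span {a}) ∪ Z (I ⊔ Ideal.span {b}) := by
      show ι '' _ = ι '' _ ∪ ι '' _
      rw [← Set.image_union]
      congr 1
      ext P
      show I ≤ P.asIdeal ↔ I ⊔ Ideal.span {a} ≤ P.asIdeal ∨ I ⊔ Ideal.span {b} ≤ P.asIdeal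
      rw [sup_le_iff, sup_le_iff, Ideal.span_singleton_le_iff_mem, Ideal.span_singleton_le_iff_mem]
      refine ⟨fun h => ?_, fun h => h.elim And.left And.left⟩
      rcases P.isPrime.mem_or_mem (h hab) with h' | h'
      · exact Or.inl ⟨h, h'⟩
      · exact Or.inr ⟨h, h'⟩
    rw [e, Set.preimage_union]
    exact (ih _ (Submodule.lt_sup_iff_notMem.2 ha)).union (ih _ (Submodule.lt_sup_iff_notMem.2 hb))
  let A : Type u := Γ(X, U) ⧸ I
  let q : Spec (CommRingCat.of A) ⟶ Spec Γ(X, U) :=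
    Spec.map (CommRingCat.ofHom (Ideal.Quotient.mk I))
  let s : Spec (CommRingCat.of A) ⟶ X := q ≫ ι
  have hq : Set.range q = PrimeSpectrum.zeroLocus (I : Set Γ(X, U)) :=
    (range_comap_of_surjective _ _ Ideal.Quotient.mk_surjective).trans
      (by rw [Ideal.mk_ker])
  suffices ∃ a : A, a ≠ 0 ∧
      IsCompact (f ⁻¹' (s '' (PrimeSpectrum.basicOpen a : Set (PrimeSpectrum A)))) by
    obtain ⟨a, ha, hac⟩ := this
    obtain ⟨r, rfl⟩ := Ideal.Quotient.mk_surjective a
    have hr : r ∉ I := fun h => ha (Ideal.Quotient.eq_zero_iff_mem.2 h)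
    have e : Z I = s '' (PrimeSpectrum.basicOpen (Ideal.Quotient.mk I r) : Set (PrimeSpectrum A)) ∪
        Z (I ⊔ Ideal.span {r}) := by
      refine Set.Subset.antisymm ?_ (Set.union_subset ?_ ?_)
      · rintro _ ⟨P, hP, rfl⟩
        obtain ⟨P', rfl⟩ := hq.ge hP
        by_cases h : P' ∈ (PrimeSpectrum.basicOpen (Ideal.Quotient.mk I r) : Set (PrimeSpectrum A))
        · exact Or.inl ⟨P', h, Scheme.Hom.comp_apply ..⟩
        · refine Or.inr ⟨_, ?_, rfl⟩
          show I ⊔ Ideal.span {r} ≤ (q P').asIdeal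
          exact sup_le (hq.le ⟨P', rfl⟩) ((Ideal.span_singleton_le_iff_mem _).2 (not_not.1 h))
      · rintro _ ⟨P', -, rfl⟩
        exact ⟨q P', hq.le ⟨P', rfl⟩, (Scheme.Hom.comp_apply ..).symm⟩
      · exact Set.image_mono (PrimeSpectrum.zeroLocus_anti_mono (SetLike.coe_subset_coe.2 le_sup_left))
    rw [e, Set.preimage_union]
    exact hac.union (ih _ (Submodule.lt_sup_iff_notMem.2 hr))
  have : I.IsPrime := hI
  have hA : IsDomain A := Ideal.Quotient.isDomain I
  let D : Set ↥(Spec (CommRingCat.of A)) := s ⁻¹' Set.range f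
  have basic : ∀ U : (Spec (CommRingCat.of A)).Opens, (U : Set ↥(Spec (CommRingCat.of A))).Nonempty →
      ∃ a : A, a ≠ 0 ∧ (PrimeSpectrum.basicOpen a : Set (PrimeSpectrum A)) ⊆
        (show Set (PrimeSpectrum A) from (U : Set ↥(Spec (CommRingCat.of A)))) := by
    rintro U ⟨P, hP⟩
    obtain ⟨_, ⟨a, rfl⟩, hPa, hle⟩ :=
      PrimeSpectrum.isTopologicalBasis_basic_opens.exists_subset_of_mem_open hP U.isOpen
    exact ⟨a, fun h => hPa (h ▸ P.asIdeal.zero_mem), hle⟩
  by_cases hD : Dense D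
  · obtain ⟨U, hUne, l, hl⟩ := hc A s D hD fun p hp => exists_lift_residue f s p hp
    obtain ⟨a, ha, haU⟩ := basic U hUne
    refine ⟨a, ha, ?_⟩
    have e : f ⁻¹' (s '' (PrimeSpectrum.basicOpen a : Set (PrimeSpectrum A))) =
        l '' (U.ι ⁻¹' (PrimeSpectrum.basicOpen a : Set (PrimeSpectrum A))) := by
      have key : ∀ v, f (l v) = s (U.ι v) := fun v => by
        rw [← Scheme.Hom.comp_apply, hl, Scheme.Hom.comp_apply]
      ext y
      constructor
      · rintro ⟨P, hP, hy⟩
        exact ⟨⟨P, haU hP⟩, hP, f.injective ((key _).trans hy)⟩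
      · rintro ⟨v, hv, rfl⟩
        exact ⟨U.ι v, hv, (key v).symm⟩
    rw [e]
    refine IsCompact.image ?_ l.continuous
    rw [U.ι.isEmbedding.isInducing.isCompact_iff, Set.image_preimage_eq_inter_range, U.range_ι,
      (Set.inter_eq_left (t := (U : Set ↥(Spec (CommRingCat.of A))))).2 haU]
    exact PrimeSpectrum.isCompact_basicOpen a
  · rw [← compl_compl D, ← interior_eq_empty_iff_dense_compl] at hD
    obtain ⟨a, ha, haU⟩ := basic ⟨_, isOpen_interior (s := Dᶜ)⟩ (Set.nonempty_iff_ne_empty.2 hD)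
    refine ⟨a, ha, ?_⟩
    have e : f ⁻¹' (s '' (PrimeSpectrum.basicOpen a : Set (PrimeSpectrum A))) = ∅ := by
      rw [Set.eq_empty_iff_forall_notMem]
      rintro y ⟨P, hP, hy⟩
      exact interior_subset (haU hP) ⟨y, hy.symm⟩
    rw [e]
    exact isCompact_empty

/-- Lifts of valuation rings force the image to be convex for specializations. -/
theorem mem_range_of_chain (f : Y ⟶ X) [Mono f]
    (H : ∀ S : ValuativeCommSq f, (∃ l₀ : Spec (CommRingCat.of (ResidueField S.R)) ⟶ Y,
      l₀ ≫ f = Spec.map (CommRingCat.ofHom (residue S.R)) ≫ S.i₂) → S.commSq.HasLift)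
    {a z c : X} (ha : a ∈ Set.range f) (hc : c ∈ Set.range f) (haz : a ⤳ z) (hzc : z ⤳ c) :
    z ∈ Set.range f := by
  obtain ⟨L, _, B, b, p, hp, hpy, hcl⟩ := ValSq12.exists_chain 2 ![a, z, c] fun i j hij => by
    fin_cases i <;> fin_cases j <;>
      first | exact specializes_rfl | exact haz | exact hzc | exact haz.trans hzc |
        exact absurd hij (by decide)
  let P0 : Ideal B := (p 0).asIdeal
  have hP0 : P0.IsPrime := (p 0).isPrime
  let W : Type u := B ⧸ P0
  have hWd : IsDomain W := Ideal.Quotient.isDomain P0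
  have hWv : ValuationRing W :=
    Function.Surjective.valuationRing (Ideal.Quotient.mk P0) Ideal.Quotient.mk_surjective
  let π : Spec (CommRingCat.of W) ⟶ Spec (CommRingCat.of B) :=
    Spec.map (CommRingCat.ofHom (Ideal.Quotient.mk P0))
  have hgen : π (⟨⊥, Ideal.isPrime_bot⟩ : PrimeSpectrum W) = p 0 := by
    refine PrimeSpectrum.ext ?_
    show Ideal.comap (Ideal.Quotient.mk P0) ⊥ = (p 0).asIdeal
    rw [← RingHom.ker_eq_comap_bot, Ideal.mk_ker]
  have hπc : π (closedPoint W) = closedPoint B :=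
    @comap_closedPoint _ _ _ W _ _ (Ideal.Quotient.mk P0)
      (IsLocalHom.of_surjective _ Ideal.Quotient.mk_surjective)
  obtain ⟨w1, hw1⟩ : p 1 ∈ Set.range π := by
    refine ((range_comap_of_surjective _ _ Ideal.Quotient.mk_surjective).trans
      (by rw [Ideal.mk_ker])).ge ?_
    exact (PrimeSpectrum.le_iff_specializes (p 0) (p 1)).2 (hp 0 1 (by decide))
  let K : Type u := FractionRing W
  let j : Spec (CommRingCat.of K) ⟶ Spec (CommRingCat.of W) :=
    Spec.map (CommRingCat.ofHom (algebraMap W K))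
  let r : Spec (CommRingCat.of (ResidueField W)) ⟶ Spec (CommRingCat.of W) :=
    Spec.map (CommRingCat.ofHom (residue W))
  have hj : j (closedPoint K) = (⟨⊥, Ideal.isPrime_bot⟩ : PrimeSpectrum W) :=
    ValSq12.spec_generic_of_field _ (IsFractionRing.injective W K) _
  have hr : r (closedPoint (ResidueField W)) = closedPoint W := comap_closedPoint (residue W)
  obtain ⟨i₁, hi₁⟩ := exists_lift_field f (j ≫ π ≫ b) (by
    rw [Scheme.Hom.comp_apply, Scheme.Hom.comp_apply, hj, hgen, hpy]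
    exact ha)
  obtain ⟨l₀, hl₀⟩ := exists_lift_field f (r ≫ π ≫ b) (by
    rw [Scheme.Hom.comp_apply, Scheme.Hom.comp_apply, hr, hπc, hcl]
    exact hc)
  obtain ⟨l, -, hl⟩ :=
    (H { R := W, K := K, i₁ := i₁, i₂ := π ≫ b, commSq := ⟨hi₁⟩ } ⟨l₀, hl₀⟩).exists_lift
  refine ⟨l w1, ?_⟩
  rw [← Scheme.Hom.comp_apply, hl, Scheme.Hom.comp_apply, hw1, hpy]
  rfl

/-- A quasi-compact monomorphism of finite presentation with valuative lifts has locally closed
image. -/
theorem exists_open_closure_subset [IsLocallyNoetherian X] (f : Y ⟶ X) [Mono f]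
    [LocallyOfFinitePresentation f] [QuasiCompact f]
    (H : ∀ S : ValuativeCommSq f, (∃ l₀ : Spec (CommRingCat.of (ResidueField S.R)) ⟶ Y,
      l₀ ≫ f = Spec.map (CommRingCat.ofHom (residue S.R)) ≫ S.i₂) → S.commSq.HasLift) (y : Y) :
    ∃ V : X.Opens, f y ∈ V ∧ (V : Set X) ∩ closure (Set.range f) ⊆ Set.range f := by
  obtain ⟨U, hU, hxU, -⟩ := exists_isAffineOpen_mem_and_subset (X := X) (x := f y) (U := ⊤) trivial
  have : IsNoetherianRing Γ(X, U) := IsLocallyNoetherian.component_noetherian ⟨U, hU⟩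
  let ι : Spec Γ(X, U) ⟶ X := hU.fromSpec
  let E : Set (Spec Γ(X, U)) := ι ⁻¹' Set.range f
  have hqc : QuasiCompact (pullback.snd f ι) := MorphismProperty.pullback_snd _ _ ‹_›
  have hfp : LocallyOfFinitePresentation (pullback.snd f ι) :=
    MorphismProperty.pullback_snd _ _ ‹_›
  have hEr : Set.range (pullback.snd f ι) = E := Scheme.Pullback.range_snd f ι
  have hE : IsConstructible E := by
    rw [← hEr, ← Set.image_univ]
    exact (pullback.snd f ι).isConstructible_image IsConstructible.univ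
  have : NoetherianSpace (Spec Γ(X, U)) :=
    inferInstanceAs (NoetherianSpace (PrimeSpectrum Γ(X, U)))
  have hcl : IsConstructible (closure E) :=
    IsConstructible.of_compl (IsRetrocompact.isConstructible isClosed_closure.isOpen_compl
      (fun _ _ _ => NoetherianSpace.isCompact _))
  obtain ⟨S, _, φ, hφ⟩ := PrimeSpectrum.exists_range_eq_of_isConstructible
    (show IsConstructible (show Set (PrimeSpectrum Γ(X, U)) from closure E \ E) from hcl.sdiff hE)
  obtain ⟨x', hx'⟩ : f y ∈ Set.range ι := hU.range_fromSpec.ge hxU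
  have hO : x' ∉ closure (closure E \ E) := by
    intro hn
    obtain ⟨t, ht⟩ := H12.exists_specializes_of_mem_closure_range_Spec (CommRingCat.ofHom φ) x'
      (hφ.symm ▸ hn)
    obtain ⟨hz, hzE⟩ : Spec.map (CommRingCat.ofHom φ) t ∈ closure E \ E := hφ.le ⟨t, rfl⟩
    obtain ⟨s, hs⟩ := H12.exists_specializes_of_mem_closure_range (pullback.snd f ι) _ (hEr ▸ hz)
    exact hzE (mem_range_of_chain f H (hEr.le ⟨s, rfl⟩) ⟨y, hx'.symm⟩ (hs.map ι.continuous)
      (ht.map ι.continuous))
  let V : X.Opens := ι ''ᵁ (⟨(closure (closure E \ E))ᶜ, isClosed_closure.isOpen_compl⟩ :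
    (Spec Γ(X, U)).Opens)
  refine ⟨V, ⟨x', hO, hx'⟩, ?_⟩
  rintro _ ⟨⟨z, hz, rfl⟩, hzc⟩
  by_contra hn
  refine hz (subset_closure ⟨?_, hn⟩)
  rw [show E = ι ⁻¹' Set.range f from rfl,
    ← ι.isOpenEmbedding.isOpenMap.preimage_closure_eq_closure_preimage ι.continuous]
  exact hzc

/-- A monomorphism of finite type with valuative lifts and closed image is a closed immersion. -/
theorem isClosedImmersion_restrict (f : Y ⟶ X) [Mono f] [LocallyOfFiniteType f] [QuasiCompact f]
    (H : ∀ S : ValuativeCommSq f, (∃ l₀ : Spec (CommRingCat.of (ResidueField S.R)) ⟶ Y,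
      l₀ ≫ f = Spec.map (CommRingCat.ofHom (residue S.R)) ≫ S.i₂) → S.commSq.HasLift)
    (V : X.Opens) (hV : (V : Set X) ∩ closure (Set.range f) ⊆ Set.range f) :
    IsClosedImmersion (f ∣_ V) := by
  have : Mono (f ∣_ V ≫ V.ι) := by
    rw [morphismRestrict_ι]
    infer_instance
  have : Mono (f ∣_ V) := mono_of_mono _ V.ι
  have : QuasiCompact (f ∣_ V) := IsZariskiLocalAtTarget.restrict (P := @QuasiCompact) ‹_› V
  have : LocallyOfFiniteType (f ∣_ V) :=
    IsZariskiLocalAtTarget.restrict (P := @LocallyOfFiniteType) ‹_› V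
  have : UniversallyClosed (f ∣_ V) := by
    refine UniversallyClosed.of_valuativeCriterion _ ?_
    rintro ⟨R, K, i₁, i₂, ⟨w⟩⟩
    let j : Spec (CommRingCat.of K) ⟶ Spec (CommRingCat.of R) :=
      Spec.map (CommRingCat.ofHom (algebraMap R K))
    let r : Spec (CommRingCat.of (ResidueField R)) ⟶ Spec (CommRingCat.of R) :=
      Spec.map (CommRingCat.ofHom (residue R))
    have w' : (i₁ ≫ (f ⁻¹ᵁ V).ι) ≫ f = j ≫ i₂ ≫ V.ι := by
      rw [Category.assoc, ← morphismRestrict_ι, ← Category.assoc, w, Category.assoc]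
    have hcl : (i₂ ≫ V.ι) (closedPoint R) ∈ closure (Set.range f) :=
      ((specializes_closedPoint (j (closedPoint K))).map (i₂ ≫ V.ι).continuous).mem_closed
        isClosed_closure (subset_closure ⟨(i₁ ≫ (f ⁻¹ᵁ V).ι) (closedPoint K), by
          rw [← Scheme.Hom.comp_apply, w', Scheme.Hom.comp_apply]⟩)
    obtain ⟨l₀, hl₀⟩ := exists_lift_field f (r ≫ i₂ ≫ V.ι) (by
      rw [Scheme.Hom.comp_apply, show r (closedPoint (ResidueField R)) = closedPoint R from
        comap_closedPoint (residue R)]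
      exact hV ⟨by rw [Scheme.Hom.comp_apply]; exact (i₂ (closedPoint R)).2, hcl⟩)
    obtain ⟨l, hl₁, hl₂⟩ := (H { R := R, K := K, i₁ := i₁ ≫ (f ⁻¹ᵁ V).ι, i₂ := i₂ ≫ V.ι,
                                  commSq := ⟨w'⟩ } ⟨l₀, hl₀⟩).exists_lift
    let L := (isPullback_morphismRestrict f V).flip.lift l i₂ hl₂
    have hL1 : L ≫ (f ⁻¹ᵁ V).ι = l := (isPullback_morphismRestrict f V).flip.lift_fst ..
    refine ⟨⟨⟨L, ?_, (isPullback_morphismRestrict f V).flip.lift_snd ..⟩⟩⟩
    rw [← cancel_mono (f ⁻¹ᵁ V).ι, Category.assoc, hL1]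
    exact hl₁
  exact (IsClosedImmersion.iff_isProper_and_mono _).2 ⟨{}, ‹_›⟩

end Groth.Agent.MonoImm12
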